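import Groth.Agent.FreeSecLib.Main
import Groth.Agent.FlatStratLib.BC
import Groth.Agent.DCohMore.FlatDescent
import Groth.Agent.DCohMore.BCTheta

/-!
# Restriction to a divisor and base change
-/

set_option autoImplicit false
set_option backward.isDefEq.respectTransparency false
set_option linter.style.haveILetI false

universe u

open CategoryTheory CategoryTheory.Limits AlgebraicGeometry
open Groth.Agent Groth.Agent.DCohLib

noncomputable section

namespace Groth.Agent.FreeSecLib

theorem epi_of_epi_pullback {X Y : Scheme.{u}} (f : X ⟶ Y) [Flat f] [Surjective f] {M N : Y.Modules} (φ : M ⟶ N)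
    [Epi ((Scheme.Modules.pullback f).map φ)] : Epi φ := by
  let S : ShortComplex Y.Modules := ShortComplex.mk φ (0 : N ⟶ N) comp_zero
  have hz : (Scheme.Modules.pullback f).map (0 : N ⟶ N) = 0 := Functor.map_zero _ _ _
  have h : (S.map (Scheme.Modules.pullback f)).Exact :=
    (ShortComplex.exact_iff_epi _ hz).2 ‹_›
  exact (ShortComplex.exact_iff_epi S rfl).1 (DCohMore.exact_of_exact_pullback f S h)

variable {X S X' S' : Scheme.{u}} {f : X ⟶ S} {g : S' ⟶ S} {g' : X' ⟶ X} {f' : X' ⟶ S'}

theorem epi_push_pullback (w : g' ≫ f = f' ≫ g) {A B : X.Modules} (φ : A ⟶ B)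
    [IsIso (CohBC.bc0 f g f' g' w B)] [Epi ((Scheme.Modules.pushforward f).map φ)] :
    Epi ((Scheme.Modules.pushforward f').map ((Scheme.Modules.pullback g').map φ)) := by
  haveI : PreservesColimitsOfSize.{0, 0} (Scheme.Modules.pullback g) :=
    (Scheme.Modules.pullbackPushforwardAdjunction g).leftAdjoint_preservesColimits
  exact epi_of_epi_fac (DCohMore.bc0_natural f g f' g' w φ).symm

theorem epi_push_of_pullback (h : IsPullback g' f' f g) [QuasiCompact f] [QuasiSeparated f] [Flat g] [Surjective g]
    {A B : X.Modules} [Coh.IsQCoh A] [Coh.IsQCoh B] (φ : A ⟶ B)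
    [Epi ((Scheme.Modules.pushforward f').map ((Scheme.Modules.pullback g').map φ))] :
    Epi ((Scheme.Modules.pushforward f).map φ) := by
  haveI := FlatStrat.isIso_bc0_flat h A
  haveI := FlatStrat.isIso_bc0_flat h B
  haveI : Epi ((Scheme.Modules.pullback g).map ((Scheme.Modules.pushforward f).map φ)) := by
    have e : (Scheme.Modules.pullback g).map ((Scheme.Modules.pushforward f).map φ) =
        CohBC.bc0 f g f' g' h.w A ≫ (Scheme.Modules.pushforward f').map ((Scheme.Modules.pullback g').map φ) ≫
          inv (CohBC.bc0 f g f' g' h.w B) := by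
      rw [← Category.assoc, ← DCohMore.bc0_natural f g f' g' h.w φ, Category.assoc, IsIso.hom_inv_id, Category.comp_id]
    rw [e]
    infer_instance
  exact epi_of_epi_pullback g _

theorem epi_congr {Z : Scheme.{u}} {A B A' B' : Z.Modules} (P : Z.Modules ⥤ S.Modules) (a : A ⟶ B) (b : A' ⟶ B')
    (e : A ≅ A') (e' : B ≅ B') (w : a ≫ e'.hom = e.hom ≫ b) : Epi (P.map a) ↔ Epi (P.map b) :=
  (MorphismProperty.epimorphisms _).arrow_mk_iso_iff
    (Arrow.isoMk (P.mapIso e) (P.mapIso e') (by
      show P.map e.hom ≫ P.map b = P.map a ≫ P.map e'.hom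
      rw [← P.map_comp, ← P.map_comp, w]))

section Curve

variable {k : Type u} [Field k] {C T T' : Scheme.{u}} (sT : T ⟶ Spec (CommRingCat.of k)) (sC : C ⟶ Spec (CommRingCat.of k))
  (u : T' ⟶ T) (g : pullback (u ≫ sT) sC ⟶ pullback sT sC)

theorem isPullback_curve (h₁ : g ≫ pullback.fst sT sC = pullback.fst (u ≫ sT) sC ≫ u)
    (h₂ : g ≫ pullback.snd sT sC = pullback.snd (u ≫ sT) sC) :
    IsPullback g (pullback.fst (u ≫ sT) sC) (pullback.fst sT sC) u := by
  refine IsPullback.of_right ?_ h₁ (IsPullback.of_hasPullback sT sC).flip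
  rw [h₂]
  exact (IsPullback.of_hasPullback (u ≫ sT) sC).flip

/-- Twists commute with base change. -/
def twistPullIso (F : (pullback sT sC).Modules) (h₂ : g ≫ pullback.snd sT sC = pullback.snd (u ≫ sT) sC) :
    twist sT sC F ⋙ Scheme.Modules.pullback g ≅ twist (u ≫ sT) sC ((Scheme.Modules.pullback g).obj F) :=
  Functor.associator _ _ _ ≪≫
    Functor.isoWhiskerLeft _ ((pullTensorBiIsoSch g).app F) ≪≫ (Functor.associator _ _ _).symm ≪≫
    Functor.isoWhiskerRight
      (Scheme.Modules.pullbackComp g (pullback.snd sT sC) ≪≫ Scheme.Modules.pullbackCongr h₂) _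

variable {u} {g} [IsProper sC] (hdim : topologicalKrullDim C ≤ 1)
  {D : C.IdealSheafData} (hD : BlowUp.IsEffCartierIdeal D)
  {F : (pullback sT sC).Modules} (hF : FlatMod.IsFinLocFree F)
  (h₁ : g ≫ pullback.fst sT sC = pullback.fst (u ≫ sT) sC ≫ u)
  (h₂ : g ≫ pullback.snd sT sC = pullback.snd (u ≫ sT) sC)

include hdim hD hF h₁ h₂

theorem epi_baseChange (h : Epi ((Scheme.Modules.pushforward (pullback.fst sT sC)).map ((twist sT sC F).map (ClSub.toSubscheme D)))) :
    Epi ((Scheme.Modules.pushforward (pullback.fst (u ≫ sT) sC)).map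
      ((twist (u ≫ sT) sC ((Scheme.Modules.pullback g).obj F)).map (ClSub.toSubscheme D))) := by
  have sq := isPullback_curve sT sC u g h₁ h₂
  let ν := twistPullIso sT sC u g F h₂
  refine (epi_congr _ _ _ (ν.app _) (ν.app _) (ν.hom.naturality _)).1 ?_
  haveI := isAffine_divisor sC hdim D hD
  -- the twist of the quotient lives on a subscheme affine over the base
  let q := pullback.snd sT sC
  let j := pullback.fst q D.subschemeι
  let q' := pullback.snd q D.subschemeι
  have sqj : IsPullback j q' q D.subschemeι := IsPullback.of_hasPullback q D.subschemeι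
  haveI : IsClosedImmersion j := MorphismProperty.pullback_fst _ _ inferInstance
  haveI : IsAffineHom (D.subschemeι ≫ sC) := isAffineHom_of_isAffine _
  haveI : IsAffineHom (j ≫ pullback.fst sT sC) :=
    MorphismProperty.of_isPullback (P := @IsAffineHom)
      (sqj.flip.paste_vert (IsPullback.of_hasPullback sT sC).flip) inferInstance
  haveI : Coh.IsQCoh (Coh.structureModule D.subscheme) := InvExt.isQCoh_of_isInvertible ParaFLib.isInvertible_structureModule
  let A := (Scheme.Modules.pullback q').obj (Coh.structureModule D.subscheme)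
  haveI : Coh.IsQCoh A := PullbackMod.isQCoh_pullback q' _
  haveI := DCohMore.isIso_bc0_affine D.subschemeι j q' sqj.flip (Coh.structureModule D.subscheme)
  haveI := (PullbackMod.isQCoh_and_isFP_of_isFinLocFree F hF).1
  haveI := PullbackMod.isQCoh_pullback j F
  let B := tmod A ((Scheme.Modules.pullback j).obj F)
  haveI : Coh.IsQCoh B := BCLib.isQCoh_tmod _ _
  let e' : (twist sT sC F).obj (ClSub.quotMod D) ≅ (Scheme.Modules.pushforward j).obj B :=
    ((DCoh.tensorBi (X := pullback sT sC)).obj F).mapIso
      (asIso (CohBC.bc0 D.subschemeι q j q' sqj.flip.w (Coh.structureModule D.subscheme))) ≪≫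
      ((VBLib.symmL F).app ((Scheme.Modules.pushforward j).obj A)).symm ≪≫ projIso j A F
  haveI : IsIso (CohBC.bc0 (pullback.fst sT sC) u (pullback.fst (u ≫ sT) sC) g sq.w ((twist sT sC F).obj (ClSub.quotMod D))) := by
    let W := pullback j g
    have h1 : IsPullback (pullback.fst j g) (pullback.snd j g) j g := IsPullback.of_hasPullback j g
    haveI i1 := DCohMore.isIso_bc0_affine j (pullback.snd j g) (pullback.fst j g) h1 B
    have h2 : IsPullback (pullback.fst j g) (pullback.snd j g ≫ pullback.fst (u ≫ sT) sC) (j ≫ pullback.fst sT sC) u :=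
      h1.paste_vert sq
    haveI i2 := DCohMore.isIso_bc0_affine (j ≫ pullback.fst sT sC) (pullback.snd j g ≫ pullback.fst (u ≫ sT) sC)
      (pullback.fst j g) h2 B
    have e := DCohMore.bc0_paste (pullback.fst sT sC) u (pullback.fst (u ≫ sT) sC) g j (pullback.snd j g) (pullback.fst j g)
      sq.w h1.w h2.w B
    refine (NatTrans.isIso_app_iff_of_iso (DCohMore.bc0Nat (pullback.fst sT sC) u (pullback.fst (u ≫ sT) sC) g sq.w) e').2 ?_
    show IsIso (CohBC.bc0 (pullback.fst sT sC) u (pullback.fst (u ≫ sT) sC) g sq.w ((Scheme.Modules.pushforward j).obj B))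
    haveI : IsIso (CohBC.bc0 (pullback.fst sT sC) u (pullback.fst (u ≫ sT) sC) g sq.w ((Scheme.Modules.pushforward j).obj B) ≫
        (Scheme.Modules.pushforward (pullback.fst (u ≫ sT) sC)).map (CohBC.bc0 j g (pullback.snd j g) (pullback.fst j g) h1.w B) ≫
        (Scheme.Modules.pushforwardComp (pullback.snd j g) (pullback.fst (u ≫ sT) sC)).hom.app _) :=
      @IsIso.of_isIso_comp_left _ _ _ _ _
        ((Scheme.Modules.pullback u).map ((Scheme.Modules.pushforwardComp j (pullback.fst sT sC)).inv.app B)) _ inferInstance (e ▸ i2)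
    exact IsIso.of_isIso_comp_right _
      ((Scheme.Modules.pushforward (pullback.fst (u ≫ sT) sC)).map (CohBC.bc0 j g (pullback.snd j g) (pullback.fst j g) h1.w B) ≫
        (Scheme.Modules.pushforwardComp (pullback.snd j g) (pullback.fst (u ≫ sT) sC)).hom.app _)
  haveI := h
  exact epi_push_pullback sq.w ((twist sT sC F).map (ClSub.toSubscheme D))

omit hdim hD in
theorem epi_descend (hu : Flat u) (hu' : Surjective u)
    (h : Epi ((Scheme.Modules.pushforward (pullback.fst (u ≫ sT) sC)).map
      ((twist (u ≫ sT) sC ((Scheme.Modules.pullback g).obj F)).map (ClSub.toSubscheme D)))) :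
    Epi ((Scheme.Modules.pushforward (pullback.fst sT sC)).map ((twist sT sC F).map (ClSub.toSubscheme D))) := by
  have sq := isPullback_curve sT sC u g h₁ h₂
  let ν := twistPullIso sT sC u g F h₂
  haveI : Epi ((Scheme.Modules.pushforward (pullback.fst (u ≫ sT) sC)).map
      ((Scheme.Modules.pullback g).map ((twist sT sC F).map (ClSub.toSubscheme D)))) :=
    (epi_congr _ _ _ (ν.app _) (ν.app _) (ν.hom.naturality (ClSub.toSubscheme D))).2 h
  haveI : QuasiCompact (pullback.fst sT sC) := MorphismProperty.pullback_fst _ _ inferInstance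
  haveI : QuasiSeparated (pullback.fst sT sC) := MorphismProperty.pullback_fst _ _ inferInstance
  haveI := (PullbackMod.isQCoh_and_isFP_of_isFinLocFree F hF).1
  haveI hqc : ∀ Z : C.Modules, Coh.IsQCoh Z → Coh.IsQCoh ((twist sT sC F).obj Z) := fun Z hZ => by
    haveI := hZ
    haveI := PullbackMod.isQCoh_pullback (pullback.snd sT sC) Z
    exact BCLib.isQCoh_tmod F _
  haveI : Coh.IsQCoh (Coh.structureModule D.subscheme) := InvExt.isQCoh_of_isInvertible ParaFLib.isInvertible_structureModule
  haveI := hqc (Coh.structureModule C) (InvExt.isQCoh_of_isInvertible ParaFLib.isInvertible_structureModule)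
  haveI : Coh.IsQCoh ((twist sT sC F).obj (ClSub.quotMod D)) := by
    haveI : Coh.IsQCoh (ClSub.quotMod D) := QCohLib.isQCoh_pushforward _ D.subschemeι
    haveI := PullbackMod.isQCoh_pullback (pullback.snd sT sC) (ClSub.quotMod D)
    exact BCLib.isQCoh_tmod F _
  exact epi_push_of_pullback sq ((twist sT sC F).map (ClSub.toSubscheme D))

end Curve

end Groth.Agent.FreeSecLib
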