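import Groth.Prelude.Def_ClSub2
import Groth.Prelude.Def_CohB1
import Groth.Agent.S8914
import Groth.Agent.S1604
import Groth.Agent.S0007
import Groth.Agent.AmpleEmb.Inverse
import Groth.Agent.PBCCons.DerTools
import Groth.Agent.SpSeqLib.Acyclic
import Groth.Agent.RpushLib.Sections
import Groth.Agent.AmpleVanLib.Descend
import Groth.Agent.DCohMore.GoodMod
import Groth.Agent.DCohLib.ProjClosed
import Groth.Agent.DCohLib.ProjFlf
import Groth.Agent.DCohMore.DescFPPF
import Groth.Agent.DecSec.FieldFlat
import Groth.Agent.LiftVBLib.Stalk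
import Groth.Agent.TildePullback.Conormal
import Groth.Agent.VBLib.TwoSections
import Groth.Agent.BCLib.TensorQCoh
import Groth.Agent.H1ZeroLib.Relative
import Groth.Agent.SerreClosLib.Main

/-!
# Twisting by a divisor on a product with a curve
-/

set_option autoImplicit false
set_option backward.isDefEq.respectTransparency false
set_option linter.style.haveILetI false

universe u

open CategoryTheory CategoryTheory.Limits AlgebraicGeometry TopologicalSpace Opposite
open Groth.Agent Groth.Agent.DCohLib

noncomputable section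

namespace Groth.Agent.FreeSecLib

theorem isZero_of_affine_sections {X : Scheme.{u}} {M : X.Modules}
    (h : ∀ V : X.Opens, IsAffineOpen V → Subsingleton Γ(M, V)) : IsZero M := by
  refine SerreClosLib.isZero_of_sections fun V s => ?_
  refine TopCat.Presheaf.section_ext (⟨M.presheaf, M.isSheaf⟩ : TopCat.Sheaf Ab X) V _ _ fun x hx => ?_
  obtain ⟨_, ⟨W : X.Opens, hW, rfl⟩, hxW, hWV⟩ :=
    X.isBasis_affineOpens.exists_subset_of_mem_open (a := x) hx V.2
  haveI := h W hW
  refine (TopCat.Presheaf.germ_res_apply M.presheaf (homOfLE hWV) x hxW s).symm.trans ?_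
  exact ((congrArg (M.presheaf.germ W x hxW) (Subsingleton.elim _ 0)).trans (map_zero _)).trans (map_zero _).symm

theorem isZero_one_fst {A B : Type*} [Category A] [Abelian A] [EnoughInjectives A] [Category B] [Abelian B]
    (G : A ⥤ B) [G.Additive] [PreservesFiniteLimits G] {S : ShortComplex A} (hS : S.ShortExact)
    (he : Epi (G.map S.g)) {M : A} (e : S.X₂ ≅ M) (h : IsZero ((G.rightDerived 1).obj M)) :
    IsZero ((G.rightDerived 1).obj S.X₁) := by
  haveI := he
  haveI := PBCCons.mono_rightDerived_map_one G hS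
  exact IsZero.of_mono ((G.rightDerived 1).map S.f) (h.of_iso ((G.rightDerived 1).mapIso e))

section Push

variable {W Z T : Scheme.{u}} (j : W ⟶ Z) (p : Z ⟶ T) [IsClosedImmersion j] [IsAffineHom (j ≫ p)]
  [QuasiCompact p] [QuasiSeparated p] [HasInjectiveResolutions Z.Modules]

/-- No higher direct image for modules living on a subscheme affine over the base. -/
theorem isZero_rpush_one_push (B : W.Modules) [Coh.IsQCoh B] :
    IsZero ((Coh.Rpush p 1).obj ((Scheme.Modules.pushforward j).obj B)) := by
  haveI : Coh.IsQCoh ((Scheme.Modules.pushforward j).obj B) := QCohLib.isQCoh_pushforward B j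
  refine isZero_of_affine_sections fun V hV => ?_
  obtain ⟨E, -⟩ := RpushLib.exists_sections_equiv (M := (Scheme.Modules.pushforward j).obj B) p 1 hV
  let U := p ⁻¹ᵁ V
  haveI : IsAffine ((j ⁻¹ᵁ U : W.Opens) : Scheme.{u}) := by
    have h : IsAffineOpen ((j ≫ p) ⁻¹ᵁ V) := hV.preimage (j ≫ p)
    rwa [Scheme.Hom.comp_preimage] at h
  haveI : IsAffineHom (j ∣_ U) := IsZariskiLocalAtTarget.restrict (P := @IsAffineHom) inferInstance U
  haveI : Coh.IsQCoh ((Scheme.Modules.restrictFunctor (j ⁻¹ᵁ U).ι).obj B) :=
    DCohLib.isQCoh_of_iso' ((Scheme.Modules.restrictFunctorIsoPullback (j ⁻¹ᵁ U).ι).app B).symm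
      (PullbackMod.isQCoh_pullback _ B)
  have h : Subsingleton (Coh.HH (U : Scheme.{u})
      ((Scheme.Modules.pushforward (j ∣_ U)).obj ((Scheme.Modules.restrictFunctor (j ⁻¹ᵁ U).ι).obj B)) 1) :=
    (AmpleVanLib.subsingleton_HH_push_iff (j ∣_ U) _ 1).2 (S0007.result _ _ 1 one_pos)
  have h' : Subsingleton (Coh.HH (U : Scheme.{u}) (((Scheme.Modules.pushforward j).obj B).restrict U.ι) 1) :=
    CurveLib.subsingleton_HH_iso ((restrictPushIso j U).app B).symm 1 h
  exact E.toEquiv.subsingleton

end Push

section Divisor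

variable {k : Type u} [Field k] {C T : Scheme.{u}} (sT : T ⟶ Spec (CommRingCat.of k)) (sC : C ⟶ Spec (CommRingCat.of k))

/-- Sheaves on the product twisted by modules on a finite subscheme of the curve. -/
theorem isZero_rpush_one_tensor_push [IsProper sC] [HasInjectiveResolutions (pullback sT sC).Modules]
    {D : Scheme.{u}} (i : D ⟶ C) [IsClosedImmersion i] [IsAffine D]
    (F : (pullback sT sC).Modules) (hF : Coh.IsQCoh F) (G : D.Modules) [Coh.IsQCoh G] :
    IsZero ((Coh.Rpush (pullback.fst sT sC) 1).obj
      (tmod F ((Scheme.Modules.pullback (pullback.snd sT sC)).obj ((Scheme.Modules.pushforward i).obj G)))) := by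
  let p := pullback.fst sT sC
  let q := pullback.snd sT sC
  let j := pullback.fst q i
  let q' := pullback.snd q i
  have sq : IsPullback j q' q i := IsPullback.of_hasPullback q i
  haveI : IsClosedImmersion j := MorphismProperty.pullback_fst _ _ inferInstance
  haveI : IsAffineHom (i ≫ sC) := isAffineHom_of_isAffine _
  haveI : IsAffineHom (j ≫ p) := by
    have sq' : IsPullback q' (j ≫ p) (i ≫ sC) sT := sq.flip.paste_vert (IsPullback.of_hasPullback sT sC).flip
    exact MorphismProperty.of_isPullback (P := @IsAffineHom) sq' inferInstance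
  haveI : QuasiCompact p := MorphismProperty.pullback_fst _ _ inferInstance
  haveI : QuasiSeparated p := MorphismProperty.pullback_fst _ _ inferInstance
  haveI := hF
  let A := (Scheme.Modules.pullback q').obj G
  haveI : Coh.IsQCoh A := PullbackMod.isQCoh_pullback q' G
  haveI := DCohMore.isIso_bc0_affine i j q' sq.flip G
  let e : (Scheme.Modules.pullback q).obj ((Scheme.Modules.pushforward i).obj G) ≅
      (Scheme.Modules.pushforward j).obj A := asIso (CohBC.bc0 i q j q' sq.flip.w G)
  haveI := PullbackMod.isQCoh_pullback j F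
  haveI : Coh.IsQCoh (tmod A ((Scheme.Modules.pullback j).obj F)) := BCLib.isQCoh_tmod _ _
  let e' : tmod F ((Scheme.Modules.pullback q).obj ((Scheme.Modules.pushforward i).obj G)) ≅
      (Scheme.Modules.pushforward j).obj (tmod A ((Scheme.Modules.pullback j).obj F)) :=
    ((DCoh.tensorBi (X := pullback sT sC)).obj F).mapIso e ≪≫
      ((VBLib.symmL F).app ((Scheme.Modules.pushforward j).obj A)).symm ≪≫ projIso j A F
  exact (isZero_rpush_one_push j p _).of_iso ((Coh.Rpush p 1).mapIso e')

theorem isAffine_divisor [IsProper sC] (hdim : topologicalKrullDim C ≤ 1) (D : C.IdealSheafData)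
    (hD : BlowUp.IsEffCartierIdeal D) : IsAffine D.subscheme := by
  letI : C.Over (Spec (CommRingCat.of k)) := ⟨sC⟩
  haveI : IsProper (C ↘ Spec (CommRingCat.of k)) := ‹IsProper sC›
  have hi : PicF.IsInvertible (ClSub.idealMod D) := (S8914.result D).2 hD
  obtain ⟨N, hN, ⟨η⟩⟩ := AmpleEmb.exists_isInverseOf hi
  haveI : IsFinite (D.subschemeι ≫ (C ↘ Spec (CommRingCat.of k))) :=
    (S1604.main k C hdim D hD N hN ⟨(AmpleLib.comm _ _) ≪≫ η⟩ 1 (Coh.structureModule C)
      (CurveLib.isFinLocFreeOfRank_one ParaFLib.isInvertible_structureModule)).1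
  exact isAffine_of_isAffineHom (D.subschemeι ≫ (C ↘ Spec (CommRingCat.of k)))

/-- The twisting functor `F ⊗ pr_C^*`. -/
abbrev twist (F : (pullback sT sC).Modules) : C.Modules ⥤ (pullback sT sC).Modules :=
  Scheme.Modules.pullback (pullback.snd sT sC) ⋙ (DCoh.tensorBi (X := pullback sT sC)).obj F

theorem shortExact_twist {F : (pullback sT sC).Modules} (hF : FlatMod.IsFinLocFree F) {S : ShortComplex C.Modules}
    (hS : S.ShortExact) :
    ((S.map (Scheme.Modules.pullback (pullback.snd sT sC))).map
      ((DCoh.tensorBi (X := pullback sT sC)).obj F)).ShortExact := by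
  haveI : Flat sT := DecSec.flat_to_field sT
  haveI : Flat (pullback.snd sT sC) := MorphismProperty.pullback_snd _ _ inferInstance
  haveI := DCohMore.preservesFiniteLimits_pullback_of_flat (pullback.snd sT sC)
  haveI : PreservesFiniteColimits (Scheme.Modules.pullback (pullback.snd sT sC)) :=
    haveI : PreservesColimitsOfSize.{0, 0} (Scheme.Modules.pullback (pullback.snd sT sC)) :=
      (Scheme.Modules.pullbackPushforwardAdjunction _).leftAdjoint_preservesColimits
    inferInstance
  obtain ⟨h1, h2⟩ := DCohLib.exact_flip_of_isFlat (E := F) fun x => PullbackMod.isFlat_of_isFinLocFree F hF x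
  haveI := h1
  haveI := h2
  haveI : ((DCoh.tensorBi (X := pullback sT sC)).flip.obj F).Additive := ModTensor.additive_tensorBi_flip _ F
  exact ShortComplex.shortExact_of_iso ((S.map (Scheme.Modules.pullback (pullback.snd sT sC))).mapNatIso (VBLib.symmL F))
    ((hS.map_of_exact (Scheme.Modules.pullback (pullback.snd sT sC))).map_of_exact
      ((DCoh.tensorBi (X := pullback sT sC)).flip.obj F))

variable [IsProper sC] [HasInjectiveResolutions (pullback sT sC).Modules]
  {F : (pullback sT sC).Modules} (hF : FlatMod.IsFinLocFree F) (hdim : topologicalKrullDim C ≤ 1)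
  {D : C.IdealSheafData} (hD : BlowUp.IsEffCartierIdeal D)

local notation "pT" => pullback.fst sT sC

include hF hdim hD

theorem twist_iff :
    IsZero ((Coh.Rpush pT 1).obj ((twist sT sC F).obj (ClSub.idealMod D))) ↔
      (IsZero ((Coh.Rpush pT 1).obj F) ∧
        Epi ((Coh.push pT).map ((twist sT sC F).map (ClSub.toSubscheme D)))) := by
  haveI : EnoughInjectives (pullback sT sC).Modules := SpSeqLib.enoughInjectives_of_hasInjectiveResolutions
  haveI : Epi (ClSub.toSubscheme D) := SerreAff.epi_unitToPush D.subschemeι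
  haveI : Mono (ClSub.idealModι D) := inferInstanceAs (Mono (kernel.ι _))
  let S : ShortComplex C.Modules := ShortComplex.mk (ClSub.idealModι D) (ClSub.toSubscheme D) (kernel.condition _)
  have hS : S.ShortExact := { exact := ShortComplex.exact_of_f_is_kernel _ (kernelIsKernel (ClSub.toSubscheme D)) }
  have hT := shortExact_twist sT sC hF hS
  haveI := isAffine_divisor sC hdim D hD
  haveI : Coh.IsQCoh (Coh.structureModule D.subscheme) := InvExt.isQCoh_of_isInvertible ParaFLib.isInvertible_structureModule
  have h3 := isZero_rpush_one_tensor_push sT sC D.subschemeι F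
    (PullbackMod.isQCoh_and_isFP_of_isFinLocFree F hF).1 (Coh.structureModule D.subscheme)
  let eO : (twist sT sC F).obj (Coh.structureModule C) ≅ F :=
    ((DCoh.tensorBi (X := pullback sT sC)).obj F).mapIso (pullStructureIso (pullback.snd sT sC)) ≪≫
      AmpleLib.unitR F
  haveI : PreservesLimitsOfSize.{0, 0} (Scheme.Modules.pushforward pT) :=
    (Scheme.Modules.pullbackPushforwardAdjunction pT).rightAdjoint_preservesLimits
  haveI : PreservesFiniteLimits (Scheme.Modules.pushforward pT) := inferInstance
  constructor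
  · intro h1
    refine ⟨?_, SpSeqLib.epi_map_of_isZero_rightDerived_one (Scheme.Modules.pushforward pT) hT h1⟩
    obtain ⟨Δ⟩ := RDerLib.nonempty_derivedLES (Scheme.Modules.pushforward pT)
    exact ((Δ.exact₂ _ hT 1).isZero_of_both_zeros (h1.eq_of_src _ _) (h3.eq_of_tgt _ _)).of_iso
      ((Coh.Rpush pT 1).mapIso eO).symm
  · rintro ⟨h2, he⟩
    let U : ShortComplex (pullback sT sC).Modules :=
      (S.map (Scheme.Modules.pullback (pullback.snd sT sC))).map ((DCoh.tensorBi (X := pullback sT sC)).obj F)
    have hU : U.ShortExact := hT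
    let eU : U.X₂ ≅ F := eO
    have heU : Epi ((Scheme.Modules.pushforward pT).map U.g) := he
    have hh : IsZero (((Scheme.Modules.pushforward pT).rightDerived 1).obj F) := h2
    have := isZero_one_fst (Scheme.Modules.pushforward pT) hU heU eU hh
    exact this

theorem epi_of_le {D' : C.IdealSheafData} (hle : D ≤ D')
    (h : Epi ((Coh.push pT).map ((twist sT sC F).map (ClSub.toSubscheme D)))) :
    Epi ((Coh.push pT).map ((twist sT sC F).map (ClSub.toSubscheme D'))) := by
  haveI : EnoughInjectives (pullback sT sC).Modules := SpSeqLib.enoughInjectives_of_hasInjectiveResolutions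
  have key : ∀ {A B : Scheme.{u}} (a : A ⟶ B) (b : B ⟶ C) (c : A ⟶ C), a ≫ b = c →
      ∃ κ, ClSub.unitToPush b ≫ κ = ClSub.unitToPush c := fun a b c hc => by
    subst hc
    exact ⟨_, (TildePullback.unitToPush_comp a b).symm⟩
  obtain ⟨κ, hκ⟩ := key (Scheme.IdealSheafData.inclusion hle) D.subschemeι D'.subschemeι
    (Scheme.IdealSheafData.inclusion_subschemeι hle)
  haveI := isAffine_divisor sC hdim D hD
  haveI : Epi κ := by
    haveI : Epi (ClSub.unitToPush D'.subschemeι) := SerreAff.epi_unitToPush D'.subschemeι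
    exact epi_of_epi_fac hκ
  let S : ShortComplex C.Modules := ShortComplex.mk (kernel.ι κ) κ (kernel.condition _)
  have hS : S.ShortExact := { exact := ShortComplex.exact_of_f_is_kernel _ (kernelIsKernel κ) }
  have hT := shortExact_twist sT sC hF hS
  haveI : ∀ E : C.IdealSheafData, Coh.IsQCoh ((Scheme.Modules.pushforward E.subschemeι).obj (Coh.structureModule E.subscheme)) :=
    fun E => haveI : Coh.IsQCoh (Coh.structureModule E.subscheme) := InvExt.isQCoh_of_isInvertible ParaFLib.isInvertible_structureModule
      QCohLib.isQCoh_pushforward _ E.subschemeι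
  haveI : Coh.IsQCoh (kernel κ) := H1ZeroLib.isQCoh_kernel κ
  haveI := DCohLib.isIso_unit_of_suppOn D.subschemeι
    (LiftVBLib.suppOn_of_mono D.subschemeι (kernel.ι κ) (suppOn_pushforward D.subschemeι _))
  haveI : Coh.IsQCoh ((Scheme.Modules.pullback D.subschemeι).obj (kernel κ)) := PullbackMod.isQCoh_pullback _ _
  let eK : kernel κ ≅ (Scheme.Modules.pushforward D.subschemeι).obj ((Scheme.Modules.pullback D.subschemeι).obj (kernel κ)) :=
    asIso ((Scheme.Modules.pullbackPushforwardAdjunction D.subschemeι).unit.app (kernel κ))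
  have h1 := (isZero_rpush_one_tensor_push sT sC D.subschemeι F
    (PullbackMod.isQCoh_and_isFP_of_isFinLocFree F hF).1
    ((Scheme.Modules.pullback D.subschemeι).obj (kernel κ))).of_iso ((Coh.Rpush pT 1).mapIso ((twist sT sC F).mapIso eK))
  haveI : PreservesLimitsOfSize.{0, 0} (Scheme.Modules.pushforward pT) :=
    (Scheme.Modules.pullbackPushforwardAdjunction pT).rightAdjoint_preservesLimits
  haveI : PreservesFiniteLimits (Scheme.Modules.pushforward pT) := inferInstance
  haveI : Epi ((Coh.push pT).map ((twist sT sC F).map κ)) :=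
    SpSeqLib.epi_map_of_isZero_rightDerived_one (Scheme.Modules.pushforward pT) hT h1
  haveI := h
  rw [show ClSub.toSubscheme D' = ClSub.toSubscheme D ≫ κ from hκ.symm, Functor.map_comp, Functor.map_comp]
  exact epi_comp _ _

end Divisor

end Groth.Agent.FreeSecLib
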